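import Mathlib

/-!
# Embedding a small field extension into a large algebraically closed field
-/

set_option autoImplicit false
universe u
open Cardinal

namespace Groth.Agent.H53.Pts

/-- If `L / k` is a field extension, `K / k` an algebraically closed extension with `#L < #K`,
then `L` embeds into `K` over `k`. -/
theorem exists_algHom_of_cardinal_lt (k L K : Type u) [Field k] [Field L] [Field K] [Algebra k L]
    [Algebra k K] [IsAlgClosed K] (h : #L < #K) : Nonempty (L →ₐ[k] K) := by
  obtain ⟨ι, v, hv⟩ := exists_isTranscendenceBasis' (R := k) (A := L)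
  obtain ⟨ι', w, hw⟩ := exists_isTranscendenceBasis' (R := k) (A := K)
  have hkL : #k ≤ #L := Cardinal.mk_le_of_injective (algebraMap k L).injective
  have hιL : #ι ≤ #L := Cardinal.mk_le_of_injective hv.1.injective
  have hK : #K ≤ max (max #k #ι') ℵ₀ := IsAlgClosed.cardinal_le_max_transcendence_basis' w hw
  have hle : #ι ≤ #ι' := by
    by_cases hι' : ℵ₀ ≤ #ι'
    · -- `#K ≤ #ι'`
      have h1 : #K ≤ max #k #ι' := by
        refine hK.trans (max_le le_rfl (hι'.trans (le_max_right _ _)))
      rcases le_total #k #ι' with h2 | h2
      · rw [max_eq_right h2] at h1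
        exact (hιL.trans h.le).trans h1
      · rw [max_eq_left h2] at h1
        exact absurd (h1.trans hkL) (not_le.2 h)
    · -- `K` is countable, so `L` is finite and algebraic over `k`
      have hι'lt : #ι' < ℵ₀ := not_le.1 hι'
      have hKle : #K ≤ max #k ℵ₀ := by
        refine hK.trans (max_le (max_le (le_max_left _ _) (hι'lt.le.trans (le_max_right _ _)))
          (le_max_right _ _))
      have hLfin : #L < ℵ₀ := by
        rcases le_total #k ℵ₀ with h2 | h2
        · rw [max_eq_right h2] at hKle
          exact h.trans_le hKle
        · rw [max_eq_left h2] at hKle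
          exact absurd (hKle.trans hkL) (not_le.2 h)
      have : Finite L := Cardinal.lt_aleph0_iff_finite.1 hLfin
      have : Algebra.IsAlgebraic k L := Algebra.IsAlgebraic.of_finite k L
      have : IsEmpty ι := hv.isEmpty_iff_isAlgebraic.2 this
      rw [Cardinal.mk_eq_zero ι]
      exact zero_le
  obtain ⟨e⟩ := (Cardinal.le_def ι ι').1 hle
  -- the algebraically independent family `w ∘ e` in `K`
  have hwe : AlgebraicIndependent k (w ∘ e) := hw.1.comp e e.injective
  -- `F = k(v)`
  let F := IntermediateField.adjoin k (Set.range v)
  have hLF : Algebra.IsAlgebraic F L := hv.isAlgebraic_field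
  let φ : F →ₐ[k] K :=
    (IsFractionRing.liftAlgHom (K := FractionRing (MvPolynomial ι k))
      (algebraicIndependent_iff_injective_aeval.1 hwe)).comp hv.1.aevalEquivField.symm.toAlgHom
  let _ : Algebra F K := φ.toRingHom.toAlgebra
  have : IsScalarTower k F K := IsScalarTower.of_algebraMap_eq fun x => (φ.commutes x).symm
  let ψ : L →ₐ[F] K := IsAlgClosed.lift
  exact ⟨ψ.restrictScalars k⟩

end Groth.Agent.H53.Pts
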