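import Groth.Agent.H53.Pts.LiftPt

/-!
# Geometric points over a large algebraically closed field lift along any morphism (S10000)
-/

set_option autoImplicit false
universe u
open CategoryTheory CategoryTheory.Limits AlgebraicGeometry Opposite Cardinal

namespace Groth.Agent.H53.Pts

open AlgSp Groth.Agent.H50 Groth.Agent.H51

/-- The residue field extension of an unramified morphism is finite. -/
theorem finite_residueField_of_unramified {X Y : Scheme.{u}} (f : X ⟶ Y) [FormallyUnramified f]
    [LocallyOfFiniteType f] (x : ↥X) :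
    letI : Algebra (Y.residueField (f.base x)) (X.residueField x) :=
      (f.residueFieldMap x).hom.toAlgebra
    Module.Finite (Y.residueField (f.base x)) (X.residueField x) := by
  algebraize [(f.stalkMap x).hom]
  have : IsLocalHom (algebraMap (Y.presheaf.stalk (f x)) (X.presheaf.stalk x)) :=
    inferInstanceAs <| IsLocalHom (f.stalkMap x).hom
  suffices h : Module.Finite
      (IsLocalRing.ResidueField (Y.presheaf.stalk (f x) : Type u))
      (IsLocalRing.ResidueField (X.presheaf.stalk x : Type u)) by
    have key : ((f.residueFieldMap x).hom.toAlgebra :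
        Algebra (Y.residueField (f.base x)) (X.residueField x)) =
        (inferInstance : Algebra (IsLocalRing.ResidueField (Y.presheaf.stalk (f x) : Type u))
          (IsLocalRing.ResidueField (X.presheaf.stalk x : Type u))) := by
      refine Algebra.algebra_ext _ _ fun x ↦ ?_
      obtain ⟨x, rfl⟩ := IsLocalRing.residue_surjective x
      rfl
    rw [key]
    exact h
  have : Algebra.EssFiniteType (Y.presheaf.stalk (f x)) (X.presheaf.stalk x) := by
    rw [← RingHom.essFiniteType_algebraMap, RingHom.algebraMap_toAlgebra]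
    exact LocallyOfFiniteType.stalkMap f x
  have : Algebra.FormallyUnramified (Y.presheaf.stalk (f x)) (X.presheaf.stalk x) := by
    rw [← RingHom.formallyUnramified_algebraMap, RingHom.algebraMap_toAlgebra]
    exact FormallyUnramified.stalkMap f x
  infer_instance

/-- Residue fields stay smaller than an infinite cardinal along an etale morphism. -/
theorem cardinal_residueField_lt_of_etale {T U : Scheme.{u}} (e : T ⟶ U) [Etale e] (t : ↥T)
    (c : Cardinal.{u}) (hc : ℵ₀ ≤ c) (h : #(U.residueField (e t)) < c) :
    #(T.residueField t) < c := by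
  let _ : Algebra (U.residueField (e t)) (T.residueField t) :=
    (e.residueFieldMap t).hom.toAlgebra
  have hfin : Module.Finite (U.residueField (e t)) (T.residueField t) :=
    finite_residueField_of_unramified e t
  have : Algebra.IsAlgebraic (U.residueField (e t)) (T.residueField t) :=
    Algebra.IsAlgebraic.of_finite _ _
  by_cases hfinU : #(U.residueField (e t)) < ℵ₀
  · have : Finite (U.residueField (e t)) := Cardinal.lt_aleph0_iff_finite.1 hfinU
    have : Finite (T.residueField t) := Module.finite_of_finite (U.residueField (e t))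
    exact (Cardinal.lt_aleph0_iff_finite.2 this).trans_le hc
  · have h2 : ℵ₀ ≤ #(U.residueField (e t)) := not_lt.1 hfinU
    refine (Algebra.IsAlgebraic.cardinalMk_le_max (U.residueField (e t))
      (T.residueField t)).trans_lt ?_
    rw [max_eq_left h2]
    exact h

variable {S : Scheme.{u}}

theorem exists_geometric_lift {X Y : AlgSp.Space S} (f : X ⟶ Y)
    {U : Over S} (a : (AlgSp.yon S).obj U ⟶ X.obj) (ha : AlgSp.RepWith @Etale a)
    (has : AlgSp.RepWith @Surjective a)
    (ybar : AlgSp.FieldPt Y.obj) (hy : ybar.IsGeometric)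
    (hk : ∀ u : ↥U.left, Cardinal.mk ↥(U.left.residueField u) < Cardinal.mk ybar.K)
    (x : AlgSp.Points X.obj) (hx : AlgSp.Points.map f.hom x = AlgSp.Points.mk ybar) :
    ∃ xbar : (AlgSp.yon S).obj ybar.pt ⟶ X.obj, xbar ≫ f.hom = ybar.toHom ∧
      AlgSp.Points.ofPt xbar (IsLocalRing.closedPoint ybar.K) = x := by
  have hK : IsAlgClosed ybar.K := hy
  obtain ⟨V, c, hc, hcs⟩ := Y.property.atlas
  obtain ⟨vbar, hvbar⟩ := exists_lift_of_chart ybar hy c hc hcs
  obtain ⟨u, rfl⟩ := surjective_ofPt_of_surjective a has x
  have sq := hc.rep.isPullback' (a ≫ f.hom)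
  have hsnd : Etale (hc.rep.snd (a ≫ f.hom)).left := hc.property_snd (a ≫ f.hom)
  have h1 : Points.ofPt c (vbar.left (IsLocalRing.closedPoint ybar.K)) =
      Points.ofPt (a ≫ f.hom) u := by
    rw [← ofPt_map_comp, hvbar, Points.ofPt_toHom, ← hx, Points.map_ofPt]
  obtain ⟨t, ht1, ht2⟩ := exists_of_ofPt_eq sq _ u h1
  have hcard : #((hc.rep.pullback (a ≫ f.hom)).left.residueField t) < #ybar.K := by
    refine cardinal_residueField_lt_of_etale (hc.rep.snd (a ≫ f.hom)).left t _ ?_ ?_
    · have : Infinite ybar.K := IsAlgClosed.instInfinite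
      exact Cardinal.aleph0_le_mk _
    · rw [ht2]
      exact hk u
  obtain ⟨ub, hub1, hub2⟩ := exists_lift_specField (hc.rep.fst' (a ≫ f.hom)).left t ybar.K
    vbar.left ht1.symm hcard
  let ubO : ybar.pt ⟶ hc.rep.pullback (a ≫ f.hom) := Over.homMk ub (by
    rw [← CategoryTheory.Over.w (hc.rep.fst' (a ≫ f.hom)), ← Category.assoc, hub1]
    exact CategoryTheory.Over.w vbar)
  have hubO : ubO ≫ hc.rep.fst' (a ≫ f.hom) = vbar := by
    ext1
    exact hub1
  refine ⟨(yon S).map (ubO ≫ hc.rep.snd (a ≫ f.hom)) ≫ a, ?_, ?_⟩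
  · rw [Category.assoc, Functor.map_comp, Category.assoc, ← sq.w, ← Category.assoc,
      ← Functor.map_comp, hubO, hvbar]
  · rw [ofPt_map_comp]
    congr 1
    change (hc.rep.snd (a ≫ f.hom)).left (ub (IsLocalRing.closedPoint ybar.K)) = u
    rw [hub2, ht2]

end Groth.Agent.H53.Pts
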