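import Groth.Agent.H53.Pts.FieldEmb
import Groth.Agent.H51.SpEtNbhd
import Groth.Agent.H51.SpPoints

/-!
# Lifting points of schemes to a large algebraically closed field
-/

set_option autoImplicit false
universe u
open CategoryTheory CategoryTheory.Limits AlgebraicGeometry Opposite Cardinal

namespace Groth.Agent.H53.Pts

theorem residueFieldCongr_inv_fromSpecResidueField {X : Scheme.{u}} {x y : ↥X} (h : x = y) :
    Spec.map (X.residueFieldCongr h).inv ≫ X.fromSpecResidueField y =
      X.fromSpecResidueField x := by
  subst h
  simp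

/-- Scheme level: a `K`-point of `V` lying under `u'` lifts to a `K`-point of `U'` at `u'` when
`K` is algebraically closed and larger than the residue field of `u'`. -/
theorem exists_lift_specField {U' V : Scheme.{u}} (g : U' ⟶ V) (u' : ↥U') (K : Type u) [Field K]
    [IsAlgClosed K] (vbar : Spec (CommRingCat.of K) ⟶ V)
    (hv : vbar (IsLocalRing.closedPoint K) = g u')
    (hcard : #(U'.residueField u') < #K) :
    ∃ ubar : Spec (CommRingCat.of K) ⟶ U', ubar ≫ g = vbar ∧
      ubar (IsLocalRing.closedPoint K) = u' := by
  let σ₀ : V.residueField (vbar (IsLocalRing.closedPoint K)) ⟶ CommRingCat.of K :=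
    V.descResidueField (Scheme.stalkClosedPointTo vbar)
  let σ : V.residueField (g u') ⟶ CommRingCat.of K := (V.residueFieldCongr hv).inv ≫ σ₀
  obtain ⟨τc, hτ⟩ : ∃ τc : U'.residueField u' ⟶ CommRingCat.of K,
      g.residueFieldMap u' ≫ τc = σ := by
    let _ : Algebra (V.residueField (g u')) (U'.residueField u') :=
      (g.residueFieldMap u').hom.toAlgebra
    let _ : Algebra (V.residueField (g u')) K := σ.hom.toAlgebra
    obtain ⟨τ⟩ := exists_algHom_of_cardinal_lt (V.residueField (g u')) (U'.residueField u') K hcard
    refine ⟨CommRingCat.ofHom τ.toRingHom, ?_⟩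
    ext x
    exact τ.commutes x
  refine ⟨Spec.map τc ≫ U'.fromSpecResidueField u', ?_, ?_⟩
  · rw [Category.assoc, ← Scheme.Hom.SpecMap_residueFieldMap_fromSpecResidueField,
      ← Category.assoc, ← Spec.map_comp, hτ, Spec.map_comp, Category.assoc]
    have h1 : Spec.map (V.residueFieldCongr hv).inv ≫ V.fromSpecResidueField (g u') =
        V.fromSpecResidueField (vbar (IsLocalRing.closedPoint K)) :=
      residueFieldCongr_inv_fromSpecResidueField hv
    rw [h1]
    exact Scheme.descResidueField_stalkClosedPointTo_fromSpecResidueField K V vbar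
  · rw [Scheme.Hom.comp_apply]
    exact Scheme.fromSpecResidueField_apply u' _

end Groth.Agent.H53.Pts
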