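import Groth.Agent.S0566
import Groth.Agent.S9833
import Groth.Agent.H51.SpBasic

/-!
# Locally of finite type over Nagata is Nagata (schemes and algebraic spaces)
-/

set_option autoImplicit false
universe u
open CategoryTheory CategoryTheory.Limits AlgebraicGeometry Opposite TopologicalSpace

namespace Groth.Agent.H53.Pts

/-- Scheme level. -/
theorem isNagata_affineOpens_of_lft {W V : Scheme.{u}} (g : W ⟶ V) [LocallyOfFiniteType g]
    (hV : ∀ V' : V.Opens, IsAffineOpen V' → CAlg.IsNagata ↑Γ(V, V'))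
    (W' : W.Opens) (hW' : IsAffineOpen W') : CAlg.IsNagata ↑Γ(W, W') := by
  -- the cover by affine opens mapping into an affine open of `V`
  let ι : Type u := {T : W.Opens // IsAffineOpen T ∧ ∃ V' : V.Opens, IsAffineOpen V' ∧ T ≤ g ⁻¹ᵁ V'}
  refine Groth.Agent.S9833.result W (ι := ι) (fun T => T.1) ?_ (fun T => T.2.1) ?_ W' hW'
  · rw [eq_top_iff]
    rintro w -
    obtain ⟨V', hV'aff, hwV', -⟩ := Opens.isBasis_iff_nbhd.1 V.isBasis_affineOpens
      (show g w ∈ (⊤ : V.Opens) from trivial)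
    obtain ⟨T, hTaff, hwT, hTV'⟩ := Opens.isBasis_iff_nbhd.1 W.isBasis_affineOpens
      (show w ∈ g ⁻¹ᵁ V' from hwV')
    exact Opens.mem_iSup.2 ⟨⟨T, hTaff, V', hV'aff, hTV'⟩, hwT⟩
  · rintro ⟨T, hT, V', hV', hTV'⟩
    have hft : (g.appLE V' T hTV').hom.FiniteType :=
      (HasRingHomProperty.iff_appLE (P := @LocallyOfFiniteType)).1 inferInstance ⟨V', hV'⟩ ⟨T, hT⟩ hTV'
    algebraize [(g.appLE V' T hTV').hom]
    exact Groth.Agent.S0566.result ↑Γ(V, V') (hV V' hV') ↑Γ(W, T)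

end Groth.Agent.H53.Pts

namespace Groth.Agent.H53.Pts

open AlgSp Groth.Agent.H50 Groth.Agent.H51

variable {S : Scheme.{u}}

theorem isNagataSp_of_locP_lft {X Y : AlgSp.Space S} (f : X ⟶ Y)
    (hf : AlgSp.LocP @LocallyOfFiniteType f.hom)
    (hY : AlgSp.EtaleLocally (fun U => ∀ V : U.Opens, IsAffineOpen V → CAlg.IsNagata ↑Γ(U, V)) Y.obj) :
    AlgSp.EtaleLocally (fun U => ∀ V : U.Opens, IsAffineOpen V → CAlg.IsNagata ↑Γ(U, V)) X.obj := by
  obtain ⟨V, c, hc, hcs, hV⟩ := hY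
  obtain ⟨U₀, a, ha, has⟩ := X.property.atlas
  have sq := hc.rep.isPullback' (a ≫ f.hom)
  have h1 : RepWith @Etale ((yon S).map (hc.rep.snd (a ≫ f.hom))) :=
    MorphismProperty.of_isPullback sq hc
  have h2 : RepWith @Surjective ((yon S).map (hc.rep.snd (a ≫ f.hom))) :=
    MorphismProperty.of_isPullback sq hcs
  refine ⟨hc.rep.pullback (a ≫ f.hom), (yon S).map (hc.rep.snd (a ≫ f.hom)) ≫ a,
    (RepWith @Etale).comp_mem _ _ h1 ha, (RepWith @Surjective).comp_mem _ _ h2 has, ?_⟩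
  have hlft : LocallyOfFiniteType (hc.rep.fst' (a ≫ f.hom)).left :=
    hf ((yon S).map (hc.rep.snd (a ≫ f.hom)) ≫ a) c (hc.rep.fst' (a ≫ f.hom))
      ((RepWith @Etale).comp_mem _ _ h1 ha) hc (by rw [Category.assoc, ← sq.w])
  intro W' hW'
  exact isNagata_affineOpens_of_lft (hc.rep.fst' (a ≫ f.hom)).left hV W' hW'

end Groth.Agent.H53.Pts
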